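/-
helper69: project TWOUT for `²F₄` (S2128): arithmetic in the field with `2^(2m+1)` elements, `θ = 2^m`
(`2θ² = 1` on exponents): the map `t ↦ t^(θ+1)` is bijective, there is no additive map of weight `θ + 1`,
and the exponent making a torus element act by a given scalar.
-/
import Cfsg.Agent.Lib.Helper18.F4P

set_option autoImplicit false
set_option linter.unusedSectionVars false

namespace Cfsg.Agent.Lib.Helper69.TwOut.F4

open Cfsg Cfsg.Lie Cfsg.Agent.Lib.Helper18 Cfsg.Agent.Lib.Helper18.F4T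

universe u

variable {K : Type u} [Field K] [Fintype K] [CharP K 2] (m : ℕ) (hq : ∀ t : K, t ^ (2 * 2 ^ m * 2 ^ m) = t)

include hq in
theorem theta_theta_sq (x : K) : ((x ^ 2 ^ m) ^ 2 ^ m) ^ 2 = x := by
  rw [← pow_mul, ← pow_mul]
  have := hq x
  rw [← this]
  congr 1
  ring

include hq in
/-- `t ↦ t^θ t` is injective. -/
theorem theta_succ_injective (x y : K) (h : x ^ 2 ^ m * x = y ^ 2 ^ m * y) : x = y := by
  have he : (2 : ℕ) ^ m ≠ 0 := pow_ne_zero _ (by norm_num)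
  have hz0 : ∀ a : K, a ^ 2 ^ m * a = 0 → a = 0 := by
    intro a ha
    rcases mul_eq_zero.mp ha with h1 | h1
    · exact pow_eq_zero_iff he |>.mp h1
    · exact h1
  by_cases hy : y = 0
  · rw [hy, zero_pow he, zero_mul] at h
    rw [hy]
    exact hz0 x h
  · have hx : x ≠ 0 := by
      intro hx
      rw [hx, zero_pow he, zero_mul] at h
      exact hy (hz0 y h.symm)
    set z := x * y⁻¹ with hzdef
    have hz : z ≠ 0 := mul_ne_zero hx (inv_ne_zero hy)
    have h1 : z ^ 2 ^ m * z = 1 := by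
      rw [hzdef, mul_pow, inv_pow]
      have hy' : y ^ 2 ^ m ≠ 0 := pow_ne_zero _ hy
      field_simp
      exact h
    have h2 : z ^ 2 ^ m = z⁻¹ := eq_inv_of_mul_eq_one_left h1
    have h3 : (z ^ 2 ^ m) ^ 2 ^ m = z := by
      rw [h2, inv_pow, h2, inv_inv]
    have h4 := theta_theta_sq m hq z
    rw [h3] at h4
    have h5 : z * (z - 1) = 0 := by rw [mul_sub, mul_one, ← pow_two, h4, sub_self]
    rcases mul_eq_zero.mp h5 with h6 | h6
    · exact absurd h6 hz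
    · have : z = 1 := sub_eq_zero.mp h6
      rw [hzdef] at this
      field_simp at this
      exact this

include hq in
/-- `t ↦ t^θ t` is surjective. -/
theorem theta_succ_surjective (υ : K) : ∃ t : K, t ^ 2 ^ m * t = υ := by
  have hinj : Function.Injective fun t : K => t ^ 2 ^ m * t := fun x y h => theta_succ_injective m hq x y h
  exact (Finite.injective_iff_surjective.mp hinj) υ

include hq in
/-- There is no non-zero additive map of weight `θ + 1`. -/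
theorem zeta_eq_zero (hm : 1 ≤ m) (hK : Fintype.card K = 2 ^ (2 * m + 1)) (ζ : K → K)
    (hadd : ∀ a b, ζ (a + b) = ζ a + ζ b)
    (hequiv : ∀ (u : Kˣ) (t : K), ζ (((u⁻¹ : Kˣ) : K) * t) = (((u : K) ^ 2 ^ m)⁻¹ * (u : K)⁻¹) * ζ t) :
    ∀ t, ζ t = 0 := by
  have he : (2 : ℕ) ^ m ≠ 0 := pow_ne_zero _ (by norm_num)
  by_contra hcon
  push Not at hcon
  obtain ⟨t₀, ht₀⟩ := hcon
  have hζ0 : ζ 0 = 0 := by
    have := hadd 0 0
    rw [add_zero] at this
    exact left_eq_add.mp this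
  have key : ∀ μ : K, ζ (μ * t₀) = μ ^ 2 ^ m * μ * ζ t₀ := by
    intro μ
    by_cases hμ : μ = 0
    · rw [hμ, zero_mul, hζ0, mul_zero, zero_mul]
    · have := hequiv (Units.mk0 μ hμ)⁻¹ t₀
      rw [inv_inv, Units.val_mk0, Units.val_inv_eq_inv_val, Units.val_mk0, inv_pow, inv_inv, inv_inv] at this
      exact this
  obtain ⟨c, hc⟩ := exists_theta_ne K m hq hm hK
  apply hc
  have h1 := key ((c : K) + 1)
  rw [add_mul, one_mul, hadd, key (c : K), theta_add, one_pow] at h1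
  have h2 : ((c : K) ^ 2 ^ m + (c : K)) * ζ t₀ = 0 := by
    have h3 : ((c : K) ^ 2 ^ m + 1) * ((c : K) + 1) * ζ t₀ =
        (c : K) ^ 2 ^ m * (c : K) * ζ t₀ + ζ t₀ + ((c : K) ^ 2 ^ m + (c : K)) * ζ t₀ := by ring
    rw [h3] at h1
    exact (left_eq_add.mp h1)
  rcases mul_eq_zero.mp h2 with h4 | h4
  · exact CharTwo.add_eq_zero.mp h4
  · exact absurd h4 ht₀

include hq in
/-- The exponent `4θ + 3` inverts `3 - 4θ` modulo `q - 1`. -/
theorem torusB_arith (κ : K) (hκ : κ ≠ 0) :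
    ((((κ ^ (4 * 2 ^ m + 3)) ^ 2) ^ 2 ^ m)⁻¹) ^ 2 * ((κ ^ (4 * 2 ^ m + 3)) ^ 2) ^ 2 * (κ ^ (4 * 2 ^ m + 3))⁻¹ = κ := by
  have hQ := theta_theta_sq m hq κ
  generalize hP : κ ^ 2 ^ m = P at hQ
  generalize hQdef : P ^ 2 ^ m = Q at hQ
  have hP0 : P ≠ 0 := by rw [← hP]; exact pow_ne_zero _ hκ
  have hQ0 : Q ≠ 0 := by rw [← hQdef]; exact pow_ne_zero _ hP0
  have hD : κ ^ (4 * 2 ^ m + 3) = P ^ 4 * κ ^ 3 := by
    rw [pow_add, mul_comm 4 (2 ^ m), pow_mul, hP]
  have hDθ : ((P ^ 4 * κ ^ 3) ^ 2) ^ 2 ^ m = (Q ^ 4 * P ^ 3) ^ 2 := by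
    rw [← pow_mul, mul_comm 2 (2 ^ m), pow_mul, mul_pow, ← pow_mul, mul_comm 4 (2 ^ m), pow_mul, hQdef,
      ← pow_mul, mul_comm 3 (2 ^ m), pow_mul, hP]
  rw [hD, hDθ, ← hQ]
  field_simp

end Cfsg.Agent.Lib.Helper69.TwOut.F4
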