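/-
helper69: project TWOUT for `²F₄` (S2128): the large Ree group `twistedF4 K (2^m)` as an instance of helper91's
`SplitBN` (port of `TwSplit.splitTw` to helper18's `²F₄` library); the hypotheses left are the identification
`X_i = n₀ Y_i n₀⁻¹`, the orders of the fundamental root subgroups and the Sylow property of `U¹`.
-/
import Cfsg.Agent.Lib.Helper91.TwOut.Inst1
import Cfsg.Agent.Lib.Helper18.F4L

set_option autoImplicit false
set_option linter.unusedSectionVars false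

namespace Cfsg.Agent.Lib.Helper69.TwOut.F4

open Cfsg Cfsg.Lie Cfsg.Agent.Lib.Helper18 Cfsg.Agent.Lib.Helper17 Cfsg.Agent.Lib.Helper91.TwOut
open Cfsg.Agent.Lib.Helper18.F4T Cfsg.Agent.Lib.Helper91.ReeF4

universe u

section Gen

variable {K : Type u} [Field K] [Fintype K] {D : ChevalleyDatum}
  (hD : D ∈ [chevG2, chevB2, chevD4, chevF4, chevE6, chevE7, chevE8]) (C : ChevData.{u} D)

/-- A word of the Weyl group making every positive root negative exchanges `U` and `V`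
(helper91's `long_conj`, for an arbitrary word). -/
theorem long_conj_word (ws : List ℕ) (hws : ∀ i ∈ ws, i < D.rank)
    (hw₀ : ∀ r < D.nroots, D.nroots / 2 ≤ r → wordRootF C.tabs ws r < D.nroots / 2) :
    (∀ g : GL D.Idx K, g ∈ D.negUnipotent K ↔ (nW hD C ws)⁻¹ * g * nW hD C ws ∈ D.posUnipotent K) ∧
    (∀ g : GL D.Idx K, g ∈ D.posUnipotent K ↔ (nW hD C ws)⁻¹ * g * nW hD C ws ∈ D.negUnipotent K) := by
  set n₀ := nW (F := K) hD C ws with hn₀def
  have hsign := signOK_of_mem D hD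
  have hev := C.heven
  have hnr := C.nroots_eq
  have hUV : ∀ u ∈ D.posUnipotent K, n₀ * u * n₀⁻¹ ∈ D.negUnipotent K := by
    unfold ChevalleyDatum.posUnipotent
    apply conj_closure_le
    rintro x ⟨r, t, hr, hx⟩
    have : x = xG hD r t := eq_xG hD _ r t hx
    rw [this, nW_conj_xG hD C _ hws r hr.1]
    have hpos := (isPosRoot_iff hD r).mp hr
    exact Subgroup.subset_closure ⟨_, _, isNegRoot_of_lt D hsign _ (wordRootF_lt C _ hws r hr.1)
      (hw₀ r hr.1 hpos.2), rfl⟩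
  have hVU : ∀ v ∈ D.negUnipotent K, n₀ * v * n₀⁻¹ ∈ D.posUnipotent K := by
    unfold ChevalleyDatum.negUnipotent
    apply conj_closure_le
    rintro x ⟨s, t, hs, hx⟩
    have : x = xG hD s t := eq_xG hD _ s t hx
    rw [this, nW_conj_xG hD C _ hws s hs.1]
    have hs2 : s < D.nroots / 2 := (negOK_spec (negOK_of_mem D hD) s hs).1
    have hneg : ∀ x, C.T.neg x = C.T.nroots - 1 - x := fun x => rfl
    obtain ⟨r, hr⟩ : ∃ r, r = C.T.neg s := ⟨_, rfl⟩
    have hr' := hr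
    rw [hneg] at hr'
    have hrlt : r < D.nroots := by omega
    have hrge : D.nroots / 2 ≤ r := by omega
    have hnn : C.T.neg r = s := by rw [hneg]; omega
    have h1 := wordRootF_neg C _ hws r hrlt
    rw [hnn] at h1
    have h2 := hw₀ _ hrlt hrge
    have h3 := wordRootF_lt C _ hws s hs.1
    apply xG_mem_posUnipotent
    rw [isPosRoot_iff hD]
    refine ⟨h3, ?_⟩
    rw [h1, hneg]
    omega
  have hfin : Finite (GL D.Idx K) := inferInstance
  have hA : (D.posUnipotent K).map (MulAut.conj n₀).toMonoidHom ≤ D.negUnipotent K := by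
    rintro x ⟨u, hu, rfl⟩
    exact hUV u hu
  have hB : (D.negUnipotent K).map (MulAut.conj n₀).toMonoidHom ≤ D.posUnipotent K := by
    rintro x ⟨v, hv, rfl⟩
    exact hVU v hv
  have cA : Nat.card ↥((D.posUnipotent K).map (MulAut.conj n₀).toMonoidHom) = Nat.card ↥(D.posUnipotent K) :=
    Subgroup.card_map_of_injective (MulAut.conj n₀).injective
  have cB : Nat.card ↥((D.negUnipotent K).map (MulAut.conj n₀).toMonoidHom) = Nat.card ↥(D.negUnipotent K) :=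
    Subgroup.card_map_of_injective (MulAut.conj n₀).injective
  have c1 := Subgroup.card_le_of_le hA
  have c2 := Subgroup.card_le_of_le hB
  rw [cA] at c1
  rw [cB] at c2
  have eA : (D.posUnipotent K).map (MulAut.conj n₀).toMonoidHom = D.negUnipotent K :=
    Subgroup.eq_of_le_of_card_ge hA (by rw [cA]; exact c2)
  have eB : (D.negUnipotent K).map (MulAut.conj n₀).toMonoidHom = D.posUnipotent K :=
    Subgroup.eq_of_le_of_card_ge hB (by rw [cB]; exact c1)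
  constructor
  · intro g
    constructor
    · intro hg
      rw [← eA] at hg
      obtain ⟨u, hu, rfl⟩ := hg
      have : n₀⁻¹ * (MulAut.conj n₀).toMonoidHom u * n₀ = u := by
        show n₀⁻¹ * (n₀ * u * n₀⁻¹) * n₀ = u
        group
      rw [this]
      exact hu
    · intro hg
      have := hUV _ hg
      have e : n₀ * (n₀⁻¹ * g * n₀) * n₀⁻¹ = g := by group
      rwa [e] at this
  · intro g
    constructor
    · intro hg
      rw [← eB] at hg
      obtain ⟨v, hv, rfl⟩ := hg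
      have : n₀⁻¹ * (MulAut.conj n₀).toMonoidHom v * n₀ = v := by
        show n₀⁻¹ * (n₀ * v * n₀⁻¹) * n₀ = v
        group
      rw [this]
      exact hv
    · intro hg
      have := hVU _ hg
      have e : n₀ * (n₀⁻¹ * g * n₀) * n₀⁻¹ = g := by group
      rwa [e] at this

end Gen

variable (K : Type u) [Field K] [Fintype K] [CharP K 2] (m : ℕ)

/-- `²F₄(K)`. -/
abbrev GF4 : Subgroup (GL chevF4.Idx K) := twistedF4 K (2 ^ m)

/-- `U¹`. -/
def UF4 : Subgroup ↥(GF4 K m) := (chevF4.posUnipotent K).subgroupOf (GF4 K m)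

/-- `V¹`. -/
def VF4 : Subgroup ↥(GF4 K m) := (chevF4.negUnipotent K).subgroupOf (GF4 K m)

/-- `U_n^- ∩ G¹`. -/
def UmF4 (n : ↥(GF4 K m)) : Subgroup ↥(GF4 K m) :=
  (Subgroup.closure (UnegSet chevF4 K (n : GL chevF4.Idx K))).subgroupOf (GF4 K m)

/-- The generator of the class `k` (`k = 0`: the pair class `[0, 3]`, `k = 1`: the class `[1, 2, 1, 2]` of type `B₂`). -/
noncomputable def sF4 (k : ℕ) : ↥(GF4 K m) :=
  ⟨nW hD4 chevData_F4.{u} (clsJ k), nW_clsJ_mem K (2 ^ m) (pow_ne_zero _ (by norm_num)) k⟩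

theorem coe_sF4 (k : ℕ) : ((sF4 K m k : ↥(GF4 K m)) : GL chevF4.Idx K) = nW hD4 chevData_F4.{u} (clsJ k) := rfl

/-- The longest element. -/
noncomputable def n0F4 : ↥(GF4 K m) := ⟨f4n0 K, f4n0_mem K m⟩

theorem coe_n0F4 : ((n0F4 K m : ↥(GF4 K m)) : GL chevF4.Idx K) = nW hD4 chevData_F4.{u} (wordJ f4Long) := rfl

/-- The positive fundamental root subgroup of the class `k`. -/
noncomputable def XF4 (k : ℕ) : Subgroup ↥(GF4 K m) := UmF4 K m (sF4 K m k)

/-- The negative fundamental root subgroup of the class `k`. -/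
noncomputable def YF4 (k : ℕ) : Subgroup ↥(GF4 K m) :=
  (XF4 K m k).map (MulAut.conj (sF4 K m k)).toMonoidHom

theorem mem_UF4 (g : ↥(GF4 K m)) : g ∈ UF4 K m ↔ (g : GL chevF4.Idx K) ∈ chevF4.posUnipotent K :=
  Subgroup.mem_subgroupOf

theorem mem_VF4 (g : ↥(GF4 K m)) : g ∈ VF4 K m ↔ (g : GL chevF4.Idx K) ∈ chevF4.negUnipotent K :=
  Subgroup.mem_subgroupOf

theorem mem_UmF4 (n g : ↥(GF4 K m)) :
    g ∈ UmF4 K m n ↔ (g : GL chevF4.Idx K) ∈ Subgroup.closure (UnegSet chevF4 K (n : GL chevF4.Idx K)) :=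
  Subgroup.mem_subgroupOf

theorem mem_XF4 (k : ℕ) (g : ↥(GF4 K m)) :
    g ∈ XF4 K m k ↔
      (g : GL chevF4.Idx K) ∈ Subgroup.closure (UnegSet chevF4 K (nW hD4 chevData_F4.{u} (clsJ k))) := by
  unfold XF4
  rw [mem_UmF4, coe_sF4]

theorem mem_YF4 (k : ℕ) (g : ↥(GF4 K m)) :
    g ∈ YF4 K m k ↔ (sF4 K m k)⁻¹ * g * sF4 K m k ∈ XF4 K m k := by
  unfold YF4
  rw [Subgroup.mem_map]
  constructor
  · rintro ⟨x, hx, rfl⟩
    have : (sF4 K m k)⁻¹ * (MulAut.conj (sF4 K m k)).toMonoidHom x * sF4 K m k = x := by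
      show (sF4 K m k)⁻¹ * (sF4 K m k * x * (sF4 K m k)⁻¹) * sF4 K m k = x
      group
    rwa [this]
  · intro h
    refine ⟨_, h, ?_⟩
    show sF4 K m k * ((sF4 K m k)⁻¹ * g * sF4 K m k) * (sF4 K m k)⁻¹ = g
    group

section Split

variable (hq : ∀ t : K, t ^ (2 * 2 ^ m * 2 ^ m) = t)

include hq in
/-- `B ∩ G¹ = (U ∩ G¹)(H ∩ G¹)`. -/
theorem borel_decomp_f4 (b : GL chevF4.Idx K) (hb : b ∈ chevF4.borelSubgroup K) (hbG : b ∈ GF4 K m) :
    ∃ u ∈ chevF4.posUnipotent K ⊓ GF4 K m, ∃ h ∈ chevF4.diagonalSubgroup K ⊓ GF4 K m, b = u * h := by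
  obtain ⟨u₀, hu₀, n, hn, u, hu, hug, e⟩ := (f4TwAbs K m hq).form b hbG
  have huU : u ∈ chevF4.posUnipotent K := closure_UnegSet_le chevF4 n hu
  have hnB : n ∈ chevF4.borelSubgroup K := by
    have : n = u₀⁻¹ * b * u⁻¹ := by rw [e]; group
    rw [this]
    exact mul_mem (mul_mem (inv_mem (borel_of_posUnipotent _ hu₀.1)) hb) (inv_mem (borel_of_posUnipotent _ huU))
  have hnH : n ∈ chevF4.diagonalSubgroup K := by
    rw [← (Cfsg.Agent.S1040.result chevF4 hD4).2]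
    exact Subgroup.mem_inf.mpr ⟨hnB, hn.1⟩
  have h1 : n * u * n⁻¹ ∈ chevF4.posUnipotent K := borel_conj_mem hD4 n u hnB huU
  refine ⟨u₀ * (n * u * n⁻¹), Subgroup.mem_inf.mpr ⟨mul_mem hu₀.1 h1, ?_⟩, n, Subgroup.mem_inf.mpr ⟨hnH, hn.2⟩, ?_⟩
  · exact mul_mem hu₀.2 (mul_mem (mul_mem hn.2 hug) (inv_mem hn.2))
  · rw [e]; group

variable (P : Cfsg.BNPair ↥(GF4 K m))
  (hPB : P.B = (chevF4.borelSubgroup K ⊓ GF4 K m).subgroupOf (GF4 K m))
  (hPN : P.N = (chevF4.monomialSubgroup K ⊓ GF4 K m).subgroupOf (GF4 K m))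
  (hPS : P.S = {s : ↥(GF4 K m) | ∃ J ∈ f4Js, (s : GL chevF4.Idx K) = nW hD4 chevData_F4.{u} J})

include hPB in
theorem mem_PB (x : ↥(GF4 K m)) : x ∈ P.B ↔ (x : GL chevF4.Idx K) ∈ chevF4.borelSubgroup K := by
  rw [hPB, Subgroup.mem_subgroupOf, Subgroup.mem_inf]
  exact ⟨fun h => h.1, fun h => ⟨h, x.2⟩⟩

include hPN in
theorem mem_PN (x : ↥(GF4 K m)) : x ∈ P.N ↔ (x : GL chevF4.Idx K) ∈ chevF4.monomialSubgroup K := by
  rw [hPN, Subgroup.mem_subgroupOf, Subgroup.mem_inf]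
  exact ⟨fun h => h.1, fun h => ⟨h, x.2⟩⟩

include hPB hPN in
theorem mem_PH (x : ↥(GF4 K m)) : x ∈ P.B ⊓ P.N ↔ (x : GL chevF4.Idx K) ∈ chevF4.diagonalSubgroup K := by
  rw [Subgroup.mem_inf, mem_PB K m P hPB, mem_PN K m P hPN, ← (Cfsg.Agent.S1040.result chevF4 hD4).2,
    Subgroup.mem_inf]

include hPB hPN in
/-- `B¹ ∩ N¹` is `H ∩ G¹`. -/
noncomputable def equivPH : ↥(P.B ⊓ P.N) ≃ ↥(chevF4.diagonalSubgroup K ⊓ GF4 K m) where
  toFun x := ⟨((x : ↥(GF4 K m)) : GL chevF4.Idx K),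
    Subgroup.mem_inf.mpr ⟨(mem_PH K m P hPB hPN x.1).mp x.2, x.1.2⟩⟩
  invFun y := ⟨⟨y.1, (Subgroup.mem_inf.mp y.2).2⟩,
    (mem_PH K m P hPB hPN _).mpr (Subgroup.mem_inf.mp y.2).1⟩
  left_inv x := rfl
  right_inv y := rfl

variable (hsyl : IsPGroup 2 ↥(UF4 K m) ∧ ¬ 2 ∣ (UF4 K m).index)
  (e : Fin 2 → ℕ) (he : ∀ i, 0 < e i)
  (hXeq : ∀ (i : Fin 2) g, g ∈ XF4 K m (i : ℕ) ↔ (n0F4 K m)⁻¹ * g * n0F4 K m ∈ YF4 K m (i : ℕ))
  (hcard : ∀ i : Fin 2, Nat.card ↥(XF4 K m (i : ℕ)) = 2 ^ e i)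

include hq hPB hPN hPS hsyl he hXeq hcard in
/-- The large Ree group as a split (B,N)-pair with root subgroups. -/
noncomputable def splitF4 : SplitBN ↥(GF4 K m) (Fin 2) 2 where
  P := P
  U := UF4 K m
  V := VF4 K m
  Um := UmF4 K m
  s := fun i => sF4 K m (i : ℕ)
  X := fun i => XF4 K m (i : ℕ)
  Y := fun i => YF4 K m (i : ℕ)
  e := e
  n₀ := n0F4 K m
  op := 1
  S_eq := by
    rw [hPS]
    ext x
    simp only [Set.mem_ofPred_eq, Set.mem_range]
    constructor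
    · rintro ⟨J, hJ, hx⟩
      simp only [f4Js, List.mem_cons, List.not_mem_nil, or_false] at hJ
      rcases hJ with rfl | rfl
      · exact ⟨0, Subtype.ext hx.symm⟩
      · exact ⟨1, Subtype.ext hx.symm⟩
    · rintro ⟨i, rfl⟩
      fin_cases i
      · exact ⟨[0, 3], by simp [f4Js], rfl⟩
      · exact ⟨[1, 2, 1, 2], by simp [f4Js], rfl⟩
  pU := hsyl.1
  idxU := hsyl.2
  U_le := by
    intro x hx
    rw [mem_PB K m P hPB]
    exact borel_of_posUnipotent _ ((mem_UF4 K m x).mp hx)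
  U_norm := by
    intro b hb x hx
    rw [mem_UF4]
    rw [mem_PB K m P hPB] at hb
    have := borel_conj_mem hD4 _ _ hb ((mem_UF4 K m x).mp hx)
    simpa using this
  B_eq := by
    intro b hb
    rw [mem_PB K m P hPB] at hb
    obtain ⟨x, hx, h, hh, e⟩ := borel_decomp_f4 K m hq _ hb b.2
    refine ⟨⟨x, hx.2⟩, (mem_UF4 K m _).mpr hx.1, ⟨h, hh.2⟩,
      (mem_PH K m P hPB hPN _).mpr hh.1, Subtype.ext e⟩
  V_inf_B := by
    rw [eq_bot_iff]
    intro x hx
    rw [Subgroup.mem_bot]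
    apply Subtype.ext
    have h1 : (x : GL chevF4.Idx K) ∈ chevF4.borelSubgroup K ⊓ chevF4.negUnipotent K :=
      Subgroup.mem_inf.mpr ⟨(mem_PB K m P hPB x).mp hx.2, (mem_VF4 K m x).mp hx.1⟩
    rw [(Cfsg.Agent.S1037.result chevF4 hD4).1, Subgroup.mem_bot] at h1
    exact h1
  n₀_mem := by
    rw [mem_PN K m P hPN, coe_n0F4]
    exact nW_mem_monomial hD4 chevData_F4.{u} _
  V_eq := by
    intro g
    rw [mem_VF4, mem_UF4]
    have := (long_conj_word (K := K) hD4 chevData_F4.{u} (wordJ f4Long) (wordJ_lt _) f4Long_spec).1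
      (g : GL chevF4.Idx K)
    rw [this, Subgroup.coe_mul, Subgroup.coe_mul, Subgroup.coe_inv, coe_n0F4]
  U_eq := by
    intro g
    rw [mem_VF4, mem_UF4]
    have := (long_conj_word (K := K) hD4 chevData_F4.{u} (wordJ f4Long) (wordJ_lt _) f4Long_spec).2
      (g : GL chevF4.Idx K)
    rw [this, Subgroup.coe_mul, Subgroup.coe_mul, Subgroup.coe_inv, coe_n0F4]
  Um_le := by
    intro n x hx
    rw [mem_UF4]
    exact closure_UnegSet_le chevF4 _ ((mem_UmF4 K m n x).mp hx)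
  Um_conj := by
    intro n x hx
    rw [mem_VF4]
    have := conj_mem_neg_of_mem_closure hD4 _ _ ((mem_UmF4 K m n x).mp hx)
    simpa using this
  Um_diag := by
    intro n h hh
    rw [mem_PH K m P hPB hPN] at hh
    ext x
    rw [mem_UmF4, mem_UmF4, Subgroup.coe_mul, closure_UnegSet_mul_diag hD4 _ _ hh]
  form := by
    intro g
    obtain ⟨u₀, hu₀, n, hn, x, hx, hxG, e⟩ := (f4TwAbs K m hq).form _ g.2
    refine ⟨⟨u₀, hu₀.2⟩, (mem_UF4 K m _).mpr hu₀.1, ⟨n, hn.2⟩, (mem_PN K m P hPN _).mpr hn.1,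
      ⟨x, hxG⟩, (mem_UmF4 K m _ _).mpr hx, Subtype.ext e⟩
  Um_s := fun i => rfl
  Y_eq := fun i g => mem_YF4 K m (i : ℕ) g
  X_eq := hXeq
  card_X := hcard
  e_pos := he

end Split

end Cfsg.Agent.Lib.Helper69.TwOut.F4
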