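/-
helper69: project TWOUT for `²F₄` (S2128): the fundamental root subgroups of `²F₄` are the pair words (class `[0,3]`,
order `q`) and the class words of type `B₂` (class `[1,2,1,2]`, order `q²`); their conjugates by the fundamental
reflections and by the longest element.
-/
import Cfsg.Agent.Lib.Helper69.TwOut.F4.Split
import Cfsg.Agent.Lib.Helper18.F4P
import Cfsg.Agent.Lib.Helper18.F4N

set_option autoImplicit false
set_option linter.unusedSectionVars false
set_option maxRecDepth 100000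

namespace Cfsg.Agent.Lib.Helper69.TwOut.F4

open Cfsg Cfsg.Lie Cfsg.Agent.Lib.Helper18 Cfsg.Agent.Lib.Helper17 Cfsg.Agent.Lib.Helper91.TwOut
open Cfsg.Agent.Lib.Helper18.F4T Cfsg.Agent.Lib.Helper91.ReeF4

universe u

section Words

variable {K : Type u} [Field K]

/-- The negative pair word. -/
noncomputable def pairN (e : ℕ) (t : K) : GL chevF4.Idx K := wordG hD4 (f4PairWord e 14 23 t)

/-- The negative class word of type `B₂`. -/
noncomputable def quadN (e : ℕ) (t υ : K) : GL chevF4.Idx K := wordG hD4 (b2ClassWord e 20 22 19 17 t υ)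

end Words

section Cell

variable (K : Type u) [Field K] [Fintype K] [CharP K 2]

theorem negBl_zero : negBl [0] = [.pair 33 24] := by decide +kernel

theorem negBl_one : negBl [1] = [.quad 27 25 28 30] := by decide +kernel

/-- A cell of a single class is the set of class words. -/
theorem cellU_single (e : ℕ) (he : e ≠ 0) (cw : List ℕ) (B : Blk) (hB : negBl cw = [B])
    (a : {s // s ∈ paramsL (negBl cw)} → K) :
    cellU K e cw a = wordG hD4 (B.word e (extL (paramsL (negBl cw)) a B.p1)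
      (extL (paramsL (negBl cw)) a B.p2 + extL (paramsL (negBl cw)) a B.p1 ^ (e + 1))) := by
  obtain ⟨hok, hnd, hl, hall, hmem⟩ := perm_facts (cellBl cw) (cellBl_perm cw)
  have hBmem : B ∈ cellBl cw := by
    unfold cellBl
    rw [hB]
    exact List.mem_append_right _ (List.mem_singleton_self B)
  have hroots : rootsL (negBl cw) = B.roots := by
    rw [hB]
    unfold rootsL
    simp
  rw [cellU_eq K e he, hroots, ← prodL_cf e B (B.roots_nodup (hok B hBmem))]
  apply prodL_congr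
  intro r hr
  exact cfL_of_mem e (cellBl cw) hnd _ B hBmem r hr

end Cell

section Fix

variable (K : Type u) [Field K] [Fintype K] [CharP K 2] (m : ℕ)

theorem two_pow_ne : (2 : ℕ) ^ m ≠ 0 := pow_ne_zero _ (by norm_num)

theorem mem25 : (25 : ℕ) ∈ paramsL (negBl [1]) := by rw [negBl_one]; decide

theorem mem28 : (28 : ℕ) ∈ paramsL (negBl [1]) := by rw [negBl_one]; decide

theorem mem24 : (24 : ℕ) ∈ paramsL (negBl [0]) := by rw [negBl_zero]; decide

/-- The pair word as a cell element. -/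
theorem pairW_eq_cellU (t : K) : pairW (2 ^ m) t = cellU K (2 ^ m) [0] (fun _ => t) := by
  rw [cellU_single K (2 ^ m) (two_pow_ne m) [0] (.pair 33 24) negBl_zero]
  show _ = wordG hD4 (f4PairWord (2 ^ m) 33 24 (extL (paramsL (negBl [0])) (fun _ => t) 24))
  rw [extL_of_mem _ _ 24 mem24]
  rfl

/-- The class word as a cell element. -/
theorem quadW_eq_cellU (t υ : K) : quadW (2 ^ m) t υ =
    cellU K (2 ^ m) [1] (fun s => if s.1 = 25 then t else υ + t ^ (2 ^ m + 1)) := by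
  rw [cellU_single K (2 ^ m) (two_pow_ne m) [1] (.quad 27 25 28 30) negBl_one]
  show _ = wordG hD4 (b2ClassWord (2 ^ m) 27 25 28 30
    (extL (paramsL (negBl [1])) (fun s => if s.1 = 25 then t else υ + t ^ (2 ^ m + 1)) 25)
    (extL (paramsL (negBl [1])) (fun s => if s.1 = 25 then t else υ + t ^ (2 ^ m + 1)) 28 +
      extL (paramsL (negBl [1])) (fun s => if s.1 = 25 then t else υ + t ^ (2 ^ m + 1)) 25 ^ (2 ^ m + 1)))
  rw [extL_of_mem _ _ 25 mem25, extL_of_mem _ _ 28 mem28]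
  simp only [if_true]
  have e : (if (28 : ℕ) = 25 then t else υ + t ^ (2 ^ m + 1)) = υ + t ^ (2 ^ m + 1) := if_neg (by norm_num)
  rw [e, add_assoc, CharTwo.add_self_eq_zero, add_zero]
  rfl

theorem pairW_injective (t t' : K) (h : pairW (2 ^ m) t = pairW (2 ^ m) t') : t = t' := by
  rw [pairW_eq_cellU, pairW_eq_cellU] at h
  have := cellU_injective K (2 ^ m) [0] _ _ h
  exact congrFun this ⟨24, mem24⟩

theorem quadW_injective (t υ t' υ' : K) (h : quadW (2 ^ m) t υ = quadW (2 ^ m) t' υ') : t = t' ∧ υ = υ' := by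
  rw [quadW_eq_cellU, quadW_eq_cellU] at h
  have := cellU_injective K (2 ^ m) [1] _ _ h
  have h1 := congrFun this ⟨25, mem25⟩
  have h2 := congrFun this ⟨28, mem28⟩
  simp only [if_true] at h1
  have e : ∀ x y : K, (if (28 : ℕ) = 25 then x else y) = y := fun x y => if_neg (by norm_num)
  simp only [e] at h2
  refine ⟨h1, ?_⟩
  rw [h1] at h2
  exact add_right_cancel h2

theorem clsJ_zero : clsJ 0 = wordJ [0] := by decide

theorem clsJ_one : clsJ 1 = wordJ [1] := by decide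

variable (hq : ∀ t : K, t ^ (2 * 2 ^ m * 2 ^ m) = t)

include hq in
/-- `X₀` is the set of pair words. -/
theorem mem_XF4_zero (g : ↥(GF4 K m)) : g ∈ XF4 K m 0 ↔ ∃ t : K, (g : GL chevF4.Idx K) = pairW (2 ^ m) t := by
  rw [mem_XF4, clsJ_zero]
  constructor
  · intro hg
    have hg' : (g : GL chevF4.Idx K) ∈
        Subgroup.closure (UnegSet chevF4 K (nW hD4 chevData_F4.{u} (wordJ [0]) * 1)) := by rwa [mul_one]
    obtain ⟨a, ha⟩ := exists_cellU K m hq [0] (by decide) 1 (one_mem _) _ hg' g.2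
    refine ⟨a ⟨24, mem24⟩, ?_⟩
    rw [ha, pairW_eq_cellU]
    congr 1
    funext s
    obtain ⟨n, hn⟩ := s
    have hn' := hn
    rw [negBl_zero] at hn'
    have h24 : n = 24 := by simpa [paramsL, Blk.params] using hn'
    subst h24
    rfl
  · rintro ⟨t, ht⟩
    rw [ht, pairW_eq_cellU]
    have := cellU_mem_closure K (2 ^ m) (two_pow_ne m) [0] (by decide) 1 (one_mem _) (fun _ => t)
    rwa [mul_one] at this

include hq in
/-- `X₁` is the set of class words of type `B₂`. -/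
theorem mem_XF4_one (g : ↥(GF4 K m)) :
    g ∈ XF4 K m 1 ↔ ∃ t υ : K, (g : GL chevF4.Idx K) = quadW (2 ^ m) t υ := by
  rw [mem_XF4, clsJ_one]
  constructor
  · intro hg
    have hg' : (g : GL chevF4.Idx K) ∈
        Subgroup.closure (UnegSet chevF4 K (nW hD4 chevData_F4.{u} (wordJ [1]) * 1)) := by rwa [mul_one]
    obtain ⟨a, ha⟩ := exists_cellU K m hq [1] (by decide) 1 (one_mem _) _ hg' g.2
    refine ⟨a ⟨25, mem25⟩, a ⟨28, mem28⟩ + a ⟨25, mem25⟩ ^ (2 ^ m + 1), ?_⟩
    rw [ha, quadW_eq_cellU]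
    congr 1
    funext s
    obtain ⟨n, hn⟩ := s
    have hn' := hn
    rw [negBl_one] at hn'
    have hs' : n = 25 ∨ n = 28 := by simpa [paramsL, Blk.params] using hn'
    rcases hs' with h | h
    · subst h
      simp
    · subst h
      have e : ∀ x y : K, (if (28 : ℕ) = 25 then x else y) = y := fun x y => if_neg (by norm_num)
      simp only [e]
      rw [add_assoc, CharTwo.add_self_eq_zero, add_zero]
  · rintro ⟨t, υ, ht⟩
    rw [ht, quadW_eq_cellU]
    have := cellU_mem_closure K (2 ^ m) (two_pow_ne m) [1] (by decide) 1 (one_mem _)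
      (fun s => if s.1 = 25 then t else υ + t ^ (2 ^ m + 1))
    rwa [mul_one] at this

/-- The pair word as an element of `²F₄`. -/
noncomputable def pairWG (t : K) : ↥(GF4 K m) := ⟨pairW (2 ^ m) t, pairP_mem K (2 ^ m) t⟩

/-- The class word as an element of `²F₄`. -/
noncomputable def quadWG (t υ : K) : ↥(GF4 K m) := ⟨quadW (2 ^ m) t υ, quadP_mem K (2 ^ m) t υ⟩

/-- The negative pair word as an element of `²F₄`. -/
noncomputable def pairNG (t : K) : ↥(GF4 K m) := ⟨pairN (2 ^ m) t, pairN_mem K (2 ^ m) t⟩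

/-- The negative class word as an element of `²F₄`. -/
noncomputable def quadNG (t υ : K) : ↥(GF4 K m) := ⟨quadN (2 ^ m) t υ, quadN_mem K (2 ^ m) t υ⟩

include hq in
theorem mem_XF4_zero' (g : ↥(GF4 K m)) : g ∈ XF4 K m 0 ↔ ∃ t : K, g = pairWG K m t := by
  rw [mem_XF4_zero K m hq]
  exact ⟨fun ⟨t, h⟩ => ⟨t, Subtype.ext h⟩, fun ⟨t, h⟩ => ⟨t, congrArg Subtype.val h⟩⟩

include hq in
theorem mem_XF4_one' (g : ↥(GF4 K m)) : g ∈ XF4 K m 1 ↔ ∃ t υ : K, g = quadWG K m t υ := by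
  rw [mem_XF4_one K m hq]
  exact ⟨fun ⟨t, υ, h⟩ => ⟨t, υ, Subtype.ext h⟩, fun ⟨t, υ, h⟩ => ⟨t, υ, congrArg Subtype.val h⟩⟩

include hq in
theorem card_XF4_zero : Nat.card ↥(XF4 K m 0) = Fintype.card K := by
  rw [← Nat.card_eq_fintype_card]
  symm
  apply Nat.card_congr
  refine Equiv.ofBijective (fun t : K => (⟨pairWG K m t, (mem_XF4_zero' K m hq _).mpr ⟨t, rfl⟩⟩ : ↥(XF4 K m 0)))
    ⟨?_, ?_⟩
  · intro t t' h
    have h1 : pairW (2 ^ m) t = pairW (2 ^ m) t' := congrArg (fun x : ↥(XF4 K m 0) => ((x : ↥(GF4 K m)) : GL chevF4.Idx K)) h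
    exact pairW_injective K m t t' h1
  · rintro ⟨g, hg⟩
    obtain ⟨t, rfl⟩ := (mem_XF4_zero' K m hq g).mp hg
    exact ⟨t, rfl⟩

include hq in
theorem card_XF4_one : Nat.card ↥(XF4 K m 1) = Fintype.card K * Fintype.card K := by
  rw [← Nat.card_eq_fintype_card, ← Nat.card_prod]
  symm
  apply Nat.card_congr
  refine Equiv.ofBijective (fun p : K × K =>
    (⟨quadWG K m p.1 p.2, (mem_XF4_one' K m hq _).mpr ⟨p.1, p.2, rfl⟩⟩ : ↥(XF4 K m 1))) ⟨?_, ?_⟩
  · rintro ⟨t, υ⟩ ⟨t', υ'⟩ h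
    have h1 : quadW (2 ^ m) t υ = quadW (2 ^ m) t' υ' :=
      congrArg (fun x : ↥(XF4 K m 1) => ((x : ↥(GF4 K m)) : GL chevF4.Idx K)) h
    obtain ⟨h2, h3⟩ := quadW_injective K m t υ t' υ' h1
    exact Prod.ext h2 h3
  · rintro ⟨g, hg⟩
    obtain ⟨t, υ, rfl⟩ := (mem_XF4_one' K m hq g).mp hg
    exact ⟨(t, υ), rfl⟩

/-! ### Conjugation by the reflections and the longest element -/

theorem sF4_conj_pairW (t : K) : sF4 K m 0 * pairWG K m t * (sF4 K m 0)⁻¹ = pairNG K m t := by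
  apply Subtype.ext
  show nW hD4 chevData_F4.{u} (clsJ 0) * pairW (2 ^ m) t * (nW hD4 chevData_F4.{u} (clsJ 0))⁻¹ = pairN (2 ^ m) t
  have h := nW_conj_blk_word (K := K) (2 ^ m) [0, 3] (clsJ_lt 0) (.pair 33 24) (by decide) t 0
  rw [(map_J1).2] at h
  exact h

theorem sF4_conj_quadW (t υ : K) : sF4 K m 1 * quadWG K m t υ * (sF4 K m 1)⁻¹ = quadNG K m t υ := by
  apply Subtype.ext
  show nW hD4 chevData_F4.{u} (clsJ 1) * quadW (2 ^ m) t υ * (nW hD4 chevData_F4.{u} (clsJ 1))⁻¹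
    = quadN (2 ^ m) t υ
  have h := nW_conj_blk_word (K := K) (2 ^ m) [1, 2, 1, 2] (clsJ_lt 1) (.quad 27 25 28 30) (by decide) t υ
  rw [(map_J2).2] at h
  exact h

theorem long_map_pair : (Blk.pair 14 23).map (wordRootF f4tabs (wordJ f4Long)) = Blk.pair 33 24 := by
  show Blk.pair _ _ = _
  rw [f4Long_neg 14 (by norm_num), f4Long_neg 23 (by norm_num)]

theorem long_map_quad : (Blk.quad 20 22 19 17).map (wordRootF f4tabs (wordJ f4Long)) = Blk.quad 27 25 28 30 := by
  show Blk.quad _ _ _ _ = _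
  rw [f4Long_neg 20 (by norm_num), f4Long_neg 22 (by norm_num), f4Long_neg 19 (by norm_num),
    f4Long_neg 17 (by norm_num)]

theorem n0F4_conj_pairN (t : K) : n0F4 K m * pairNG K m t * (n0F4 K m)⁻¹ = pairWG K m t := by
  apply Subtype.ext
  show nW hD4 chevData_F4.{u} (wordJ f4Long) * pairN (2 ^ m) t * (nW hD4 chevData_F4.{u} (wordJ f4Long))⁻¹
    = pairW (2 ^ m) t
  have h := nW_conj_blk_word (K := K) (2 ^ m) (wordJ f4Long) (wordJ_lt _) (.pair 14 23) (by decide) t 0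
  rw [long_map_pair] at h
  exact h

theorem n0F4_conj_quadN (t υ : K) : n0F4 K m * quadNG K m t υ * (n0F4 K m)⁻¹ = quadWG K m t υ := by
  apply Subtype.ext
  show nW hD4 chevData_F4.{u} (wordJ f4Long) * quadN (2 ^ m) t υ * (nW hD4 chevData_F4.{u} (wordJ f4Long))⁻¹
    = quadW (2 ^ m) t υ
  have h := nW_conj_blk_word (K := K) (2 ^ m) (wordJ f4Long) (wordJ_lt _) (.quad 20 22 19 17) (by decide) t υ
  rw [long_map_quad] at h
  exact h

include hq in
/-- `Y₀` is the set of negative pair words. -/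
theorem mem_YF4_zero (g : ↥(GF4 K m)) : g ∈ YF4 K m 0 ↔ ∃ t : K, g = pairNG K m t := by
  rw [mem_YF4, mem_XF4_zero' K m hq]
  constructor
  · rintro ⟨t, ht⟩
    refine ⟨t, ?_⟩
    rw [← sF4_conj_pairW, ← ht]
    group
  · rintro ⟨t, rfl⟩
    refine ⟨t, ?_⟩
    rw [← sF4_conj_pairW]
    group

include hq in
/-- `Y₁` is the set of negative class words. -/
theorem mem_YF4_one (g : ↥(GF4 K m)) : g ∈ YF4 K m 1 ↔ ∃ t υ : K, g = quadNG K m t υ := by
  rw [mem_YF4, mem_XF4_one' K m hq]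
  constructor
  · rintro ⟨t, υ, ht⟩
    refine ⟨t, υ, ?_⟩
    rw [← sF4_conj_quadW, ← ht]
    group
  · rintro ⟨t, υ, rfl⟩
    refine ⟨t, υ, ?_⟩
    rw [← sF4_conj_quadW]
    group

include hq in
/-- The hypothesis `hXeq` of `splitF4`. -/
theorem hXeq_F4 (i : Fin 2) (g : ↥(GF4 K m)) :
    g ∈ XF4 K m (i : ℕ) ↔ (n0F4 K m)⁻¹ * g * n0F4 K m ∈ YF4 K m (i : ℕ) := by
  fin_cases i
  · show g ∈ XF4 K m 0 ↔ _ ∈ YF4 K m 0
    rw [mem_XF4_zero' K m hq, mem_YF4_zero K m hq]
    constructor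
    · rintro ⟨t, rfl⟩
      refine ⟨t, ?_⟩
      rw [← n0F4_conj_pairN]
      group
    · rintro ⟨t, ht⟩
      refine ⟨t, ?_⟩
      rw [← n0F4_conj_pairN, ← ht]
      group
  · show g ∈ XF4 K m 1 ↔ _ ∈ YF4 K m 1
    rw [mem_XF4_one' K m hq, mem_YF4_one K m hq]
    constructor
    · rintro ⟨t, υ, rfl⟩
      refine ⟨t, υ, ?_⟩
      rw [← n0F4_conj_quadN]
      group
    · rintro ⟨t, υ, ht⟩
      refine ⟨t, υ, ?_⟩
      rw [← n0F4_conj_quadN, ← ht]
      group

end Fix

end Cfsg.Agent.Lib.Helper69.TwOut.F4
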