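/-
helper69: project TWOUT for `²F₄` (S2128): the entrywise field automorphisms induce automorphisms of `²F₄` fixing
`U¹` and `V¹` and acting on the parameters of the pair words and of the class words.
-/
import Cfsg.Agent.Lib.Helper69.TwOut.F4.Cls
import Cfsg.Agent.Lib.Helper69.TwOut.TwAutGen

set_option autoImplicit false
set_option linter.unusedSectionVars false

namespace Cfsg.Agent.Lib.Helper69.TwOut.F4

open Cfsg Cfsg.Lie Cfsg.Agent.Lib.Helper17 Cfsg.Agent.Lib.Helper91.TwOut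
open Cfsg.Agent.Lib.Helper18 hiding hD4
open Cfsg.Agent.Lib.Helper18.F4T Cfsg.Agent.Lib.Helper91.ReeF4
open Cfsg.Agent.Lib.Helper69.TwOut

universe u

section Gen

variable {K : Type u} [Field K] {D : ChevalleyDatum}
  (hD : D ∈ [chevG2, chevB2, chevD4, chevF4, chevE6, chevE7, chevE8])

include hD in
theorem glMap_wordG (τ : K ≃+* K) (w : List (ℕ × K)) :
    Cfsg.Agent.S1080.glMap D τ (wordG hD w) = wordG hD (w.map fun p => (p.1, τ p.2)) := by
  induction w with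
  | nil => simp [wordG_nil]
  | cons a w ih => rw [List.map_cons, wordG_cons, wordG_cons, map_mul, ih, glMap_xG hD τ a.1]

end Gen

variable (K : Type u) [Field K] [Fintype K] [CharP K 2] (m : ℕ)

theorem map_f4Words (e : ℕ) (τ : K ≃+* K) (w : List (ℕ × K)) (hw : w ∈ f4Words K e) :
    (w.map fun p => (p.1, τ p.2)) ∈ f4Words K e := by
  rcases hw with ⟨t, rfl | rfl⟩ | ⟨t, υ, rfl | rfl⟩
  · left
    exact ⟨τ t, Or.inl (by simp [f4PairWord, map_pow])⟩
  · left
    exact ⟨τ t, Or.inr (by simp [f4PairWord, map_pow])⟩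
  · right
    exact ⟨τ t, τ υ, Or.inl (by simp [b2ClassWord, map_pow, map_add])⟩
  · right
    exact ⟨τ t, τ υ, Or.inr (by simp [b2ClassWord, map_pow, map_add])⟩

theorem glMap_gen_subset (e : ℕ) (τ : K ≃+* K) (g : GL chevF4.Idx K)
    (hg : g ∈ {g : GL chevF4.Idx K | ∃ w ∈ f4Words K e, (g : Matrix chevF4.Idx chevF4.Idx K) = chevF4.wordMat K w}) :
    Cfsg.Agent.S1080.glMap chevF4 τ g ∈
      {g : GL chevF4.Idx K | ∃ w ∈ f4Words K e, (g : Matrix chevF4.Idx chevF4.Idx K) = chevF4.wordMat K w} := by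
  obtain ⟨w, hw, hgw⟩ := hg
  have : g = wordG hD4 w := Units.ext (by rw [hgw, coe_wordG])
  refine ⟨_, map_f4Words K e τ w hw, ?_⟩
  rw [this, glMap_wordG hD4 τ w, coe_wordG]

/-- An entrywise field automorphism fixes `²F₄`. -/
theorem glMap_F4 (e : ℕ) (τ : K ≃+* K) :
    (twistedF4 K e).map ((Cfsg.Agent.S1080.glMap chevF4 τ : GL chevF4.Idx K ≃* GL chevF4.Idx K) :
        GL chevF4.Idx K →* GL chevF4.Idx K) = twistedF4 K e := by
  unfold twistedF4 ChevalleyDatum.genSubgroup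
  rw [MonoidHom.map_closure]
  congr 1
  ext g
  simp only [Set.mem_image]
  constructor
  · rintro ⟨g', hg', rfl⟩
    exact glMap_gen_subset K e τ g' hg'
  · intro hg
    exact ⟨Cfsg.Agent.S1080.glMap chevF4 τ.symm g, glMap_gen_subset K e τ.symm g hg, glMap_glMap_symm τ g⟩

/-- [F4-FIELD] -/
theorem exists_fieldAut_F4 (τ : K ≃+* K) :
    ∃ θ : ↥(GF4 K m) ≃* ↥(GF4 K m),
      (UF4 K m).map θ.toMonoidHom = UF4 K m ∧ (VF4 K m).map θ.toMonoidHom = VF4 K m ∧
      (∀ t : K, θ (pairWG K m t) = pairWG K m (τ t)) ∧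
      (∀ t υ : K, θ (quadWG K m t υ) = quadWG K m (τ t) (τ υ)) := by
  obtain ⟨θ, h1, h2⟩ := exists_restrict (Cfsg.Agent.S1080.glMap chevF4 τ) (GF4 K m) (glMap_F4 K (2 ^ m) τ)
  refine ⟨θ, h2 _ (glMap_posUnipotent hD4 τ), h2 _ (glMap_negUnipotent hD4 τ), ?_, ?_⟩
  · intro t
    apply Subtype.ext
    rw [h1]
    show Cfsg.Agent.S1080.glMap chevF4 τ (wordG hD4 (f4PairWord (2 ^ m) 33 24 t)) =
      wordG hD4 (f4PairWord (2 ^ m) 33 24 (τ t))
    rw [glMap_wordG hD4 τ]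
    simp [f4PairWord, map_pow]
  · intro t υ
    apply Subtype.ext
    rw [h1]
    show Cfsg.Agent.S1080.glMap chevF4 τ (wordG hD4 (b2ClassWord (2 ^ m) 27 25 28 30 t υ)) =
      wordG hD4 (b2ClassWord (2 ^ m) 27 25 28 30 (τ t) (τ υ))
    rw [glMap_wordG hD4 τ]
    simp [b2ClassWord, map_pow, map_add]

end Cfsg.Agent.Lib.Helper69.TwOut.F4
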