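/-
helper69: project TWOUT for `²F₄` (S2128): the homomorphism `SL₂(K) → ²F₄` of the pair class `[0,3]`:
`A ↦ φ₃₃(A^θ) φ₂₄(A)`; its values on the unipotent and the diagonal elements.
-/
import Cfsg.Agent.Lib.Helper69.TwOut.F4.Cls
import Cfsg.Agent.Lib.Helper69.TwOut.E6SL2
import Cfsg.Agent.Lib.Helper18.NConj

set_option autoImplicit false
set_option linter.unusedSectionVars false
set_option maxRecDepth 100000

namespace Cfsg.Agent.Lib.Helper69.TwOut.F4

open Cfsg Cfsg.Lie Cfsg.Agent.Lib.Helper17 Cfsg.Agent.Lib.Helper91.TwOut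
open Cfsg.Agent.Lib.Helper18 hiding hD4
open Cfsg.Agent.Lib.Helper18.F4T Cfsg.Agent.Lib.Helper91.ReeF4 Cfsg.Agent.Lib.Helper61.ReeF4
open Cfsg.Agent.Lib.Helper17.SL2Pres Cfsg.Agent.Lib.Helper17.ChevSL2 Cfsg.Agent.Lib.Helper19.NatSL2
open Cfsg.Agent.Lib.Helper69.TwOut

universe u

/-- Elements of two sets commuting pairwise generate commuting subgroups. -/
theorem commute_closure {G : Type*} [Group G] (S T : Set G) (h : ∀ s ∈ S, ∀ t ∈ T, Commute s t) :
    ∀ a ∈ Subgroup.closure S, ∀ b ∈ Subgroup.closure T, Commute a b := by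
  intro a ha b hb
  have h1 : Subgroup.closure S ≤ Subgroup.centralizer (Subgroup.closure T : Set G) := by
    rw [Subgroup.closure_le]
    intro s hs
    rw [SetLike.mem_coe, Subgroup.mem_centralizer_iff]
    intro y hy
    have h2 : Subgroup.closure T ≤ Subgroup.centralizer ({s} : Set G) := by
      rw [Subgroup.closure_le]
      intro t ht
      rw [SetLike.mem_coe, Subgroup.mem_centralizer_iff]
      intro z hz
      rw [Set.mem_singleton_iff] at hz
      rw [hz]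
      exact (h s hs t ht).eq
    have h3 := h2 hy
    rw [Subgroup.mem_centralizer_iff] at h3
    exact (h3 s (Set.mem_singleton s)).symm
  have h4 := h1 ha
  rw [Subgroup.mem_centralizer_iff] at h4
  exact (h4 b hb).symm

theorem commE_F4 : TwCfg.commE chevData_F4.{0}.T 33 24 = true ∧ TwCfg.commE chevData_F4.{0}.T 33 23 = true ∧
    TwCfg.commE chevData_F4.{0}.T 14 24 = true ∧ TwCfg.commE chevData_F4.{0}.T 14 23 = true := by
  decide +kernel

theorem simple_F4 : chevF4.simple 0 = 33 ∧ chevF4.simple 3 = 24 ∧ chevF4.neg 33 = 14 ∧ chevF4.neg 24 = 23 := by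
  decide

section Fix

variable (K : Type u) [Field K] [Fintype K] [CharP K 2] (m : ℕ)

theorem pairW_eq' (t : K) : pairW (2 ^ m) t = xG hD4 33 (t ^ 2 ^ m) * xG hD4 24 t := pairW_eq _ t

theorem pairN_eq (e : ℕ) (t : K) : pairN e t = xG hD4 14 (t ^ e) * xG hD4 23 t := by
  unfold pairN f4PairWord
  rw [wordG_cons, wordG_cons, wordG_nil, mul_one]

/-- [F4-SL2A] The homomorphism of the pair class. -/
theorem exists_PhiA :
    ∃ Φ : Matrix.SpecialLinearGroup (Fin 2) K →* ↥(GF4 K m),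
      (∀ t : K, Φ (sx t) = pairWG K m t) ∧ (∀ t : K, Φ (sy t) = pairNG K m t) ∧
      (∀ v : Kˣ, ((Φ (hd v) : ↥(GF4 K m)) : GL chevF4.Idx K) =
        hPt hD4 chevData_F4.{u} 0 ((v : K) ^ 2 ^ m) * hPt hD4 chevData_F4.{u} 3 (v : K)) := by
  obtain ⟨s0, s3, n33, n24⟩ := simple_F4
  obtain ⟨ψi, hix, hiy⟩ := exists_hom_root (F := K) chevF4 hD4 33 (by decide)
  obtain ⟨ψj, hjx, hjy⟩ := exists_hom_root (F := K) chevF4 hD4 24 (by decide)
  rw [n33] at hiy
  rw [n24] at hjy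
  obtain ⟨c1, c2, c3, c4⟩ := commE_F4
  have cij : ∀ A B, Commute (ψi A) (ψj B) := by
    intro A B
    apply commute_closure _ _ _ _ (hom_mem_closure ψi _ _ hix hiy A) _ (hom_mem_closure ψj _ _ hjx hjy B)
    rintro x ⟨t, rfl | rfl⟩ y ⟨t', rfl | rfl⟩
    · exact commE_commute hD4 chevData_F4.{u} 33 24 c1 t t'
    · exact commE_commute hD4 chevData_F4.{u} 33 23 c2 t t'
    · exact commE_commute hD4 chevData_F4.{u} 14 24 c3 t t'
    · exact commE_commute hD4 chevData_F4.{u} 14 23 c4 t t'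
  have : Fact (Nat.Prime 2) := ⟨Nat.prime_two⟩
  let f1 : K →+* K := iterateFrobenius K 2 m
  have hf1 : ∀ t : K, f1 t = t ^ 2 ^ m := fun t => iterateFrobenius_def 2 m t
  let Ψ : Matrix.SpecialLinearGroup (Fin 2) K →* GL chevF4.Idx K :=
    prod2 (ψi.comp (Matrix.SpecialLinearGroup.map f1)) ψj (fun A B => cij _ B)
  have hΨx : ∀ t : K, Ψ (sx t) = pairW (2 ^ m) t := by
    intro t
    show ψi (Matrix.SpecialLinearGroup.map f1 (sx t)) * ψj (sx t) = _
    rw [map_sx, sx_eq_uu, sx_eq_uu, hix, hjx, hf1, pairW_eq]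
  have hΨy : ∀ t : K, Ψ (sy t) = pairN (2 ^ m) t := by
    intro t
    show ψi (Matrix.SpecialLinearGroup.map f1 (sy t)) * ψj (sy t) = _
    rw [map_sy, sy_eq_yy, sy_eq_yy, hiy, hjy, hf1, pairN_eq]
  have hmem : ∀ A, Ψ A ∈ GF4 K m := fun A =>
    hom_mem_of_gens Ψ (GF4 K m)
      (fun t => by rw [hΨx]; exact pairP_mem K (2 ^ m) t)
      (fun t => by rw [hΨy]; exact pairN_mem K (2 ^ m) t) A
  refine ⟨Ψ.codRestrict (GF4 K m) hmem, fun t => Subtype.ext (hΨx t), fun t => Subtype.ext (hΨy t), fun v => ?_⟩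
  show ψi (Matrix.SpecialLinearGroup.map f1 (hd v)) * ψj (hd v) = _
  have hix' : ∀ t, ψi (uu t) = xG hD4 (chevF4.simple 0) t := by rw [s0]; exact hix
  have hiy' : ∀ t, ψi (yy t) = xG hD4 (chevF4.neg (chevF4.simple 0)) t := by rw [s0, n33]; exact hiy
  have hjx' : ∀ t, ψj (uu t) = xG hD4 (chevF4.simple 3) t := by rw [s3]; exact hjx
  have hjy' : ∀ t, ψj (yy t) = xG hD4 (chevF4.neg (chevF4.simple 3)) t := by rw [s3, n24]; exact hjy
  rw [map_hd, hom_root_hd hD4 chevData_F4.{u} ψi 0 (by decide) hix' hiy',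
    hom_root_hd hD4 chevData_F4.{u} ψj 3 (by decide) hjx' hjy']
  congr 2

/-- The torus element of the pair class is `f4H 1 v`. -/
theorem hPt_mul_eq_f4H (v : Kˣ) :
    hPt hD4 chevData_F4.{u} 0 ((v : K) ^ 2 ^ m) * hPt hD4 chevData_F4.{u} 3 (v : K) = f4H (2 ^ m) 1 v := by
  obtain ⟨s0, s3, -, -⟩ := simple_F4
  apply Units.ext
  rw [Units.val_mul, coe_hPt hD4 chevData_F4.{u} 0 (by decide), coe_hPt hD4 chevData_F4.{u} 3 (by decide), coe_f4H,
    s0, s3, Units.val_one, one_pow, hMat_one chevF4 hD4 27 (by decide), hMat_one chevF4 hD4 25 (by decide),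
    one_mul, one_mul]

end Fix

end Cfsg.Agent.Lib.Helper69.TwOut.F4
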