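/-
helper69: project TWOUT for `²F₄` (S2128): the action of the torus `H¹ = {f4H c d}` on the pair words and on the
class words of type `B₂`, for both parameters.
-/
import Cfsg.Agent.Lib.Helper69.TwOut.F4.Cls

set_option autoImplicit false
set_option linter.unusedSectionVars false
set_option maxRecDepth 100000

namespace Cfsg.Agent.Lib.Helper69.TwOut.F4

open Cfsg Cfsg.Lie Cfsg.Agent.Lib.Helper18 Cfsg.Agent.Lib.Helper17 Cfsg.Agent.Lib.Helper91.TwOut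
open Cfsg.Agent.Lib.Helper18.F4T Cfsg.Agent.Lib.Helper91.ReeF4 Cfsg.Agent.Lib.Helper61.ReeF4

universe u

section Conj

variable {K : Type u} [Field K]

/-- The action of `f4H e c d` on the pair words. -/
theorem f4H_conj_pairW' (e : ℕ) (c d : Kˣ) (t : K) :
    f4H e c d * pairW e t * (f4H e c d)⁻¹ = pairW e ((c : K)⁻¹ * (d : K) ^ 2 * t) := by
  obtain ⟨⟨a1, a2, a3, a4⟩, ⟨b1, b2, b3, b4⟩, -⟩ := cartan_tab6
  rw [pairW_eq, pairW_eq]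
  unfold f4H
  rw [conj_mul4, tor4_conj_xG _ _ _ _ 33 (by norm_num), tor4_conj_xG _ _ _ _ 24 (by norm_num),
    a1, a2, a3, a4, b1, b2, b3, b4]
  congr 2
  · simp only [Units.val_pow_eq_pow_val, zpow_neg, zpow_ofNat, pow_zero, pow_one, mul_one]
    rw [mul_pow, mul_pow, inv_pow]
    ring
  · simp only [Units.val_pow_eq_pow_val, zpow_neg, zpow_ofNat, pow_zero, pow_one, mul_one, one_mul]

end Conj

section ConjQ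

variable {K : Type u} [Field K] [CharP K 2]

/-- The action of `f4H θ c d` on the class words of type `B₂`. -/
theorem f4H_conj_quadW' (m : ℕ) (hq : ∀ t : K, t ^ (2 * 2 ^ m * 2 ^ m) = t) (c d : Kˣ) (t υ : K) :
    f4H (2 ^ m) c d * quadW (2 ^ m) t υ * (f4H (2 ^ m) c d)⁻¹
      = quadW (2 ^ m) ((((c : K) ^ 2 ^ m)⁻¹) ^ 2 * (c : K) ^ 2 * (d : K)⁻¹ * t)
          (((d : K) ^ 2 ^ m)⁻¹ * (c : K) * (d : K)⁻¹ * υ) := by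
  obtain ⟨-, -, ⟨a1, a2, a3, a4⟩, ⟨b1, b2, b3, b4⟩, ⟨c1, c2, c3, c4⟩, ⟨d1, d2, d3, d4⟩⟩ := cartan_tab6
  have hc0 : (c : K) ≠ 0 := c.ne_zero
  have hd0 : (d : K) ≠ 0 := d.ne_zero
  have hX : (c : K) ^ 2 ^ m ≠ 0 := pow_ne_zero _ hc0
  have hY : (d : K) ^ 2 ^ m ≠ 0 := pow_ne_zero _ hd0
  have hpp : ∀ x : K, ((x ^ 2 ^ m) ^ 2 ^ m) ^ 2 = x := by
    intro x
    rw [← pow_mul, ← pow_mul]
    have := hq x
    rw [← this]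
    congr 1
    ring
  have hXX := hpp (c : K)
  have hYY := hpp (d : K)
  unfold quadW b2ClassWord f4H
  simp only [wordG_cons, wordG_nil, mul_one]
  rw [conj_mul4, conj_mul4, conj_mul4, tor4_conj_xG _ _ _ _ 27 (by norm_num), tor4_conj_xG _ _ _ _ 25 (by norm_num),
    tor4_conj_xG _ _ _ _ 28 (by norm_num), tor4_conj_xG _ _ _ _ 30 (by norm_num),
    a1, a2, a3, a4, b1, b2, b3, b4, c1, c2, c3, c4, d1, d2, d3, d4]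
  simp only [Units.val_pow_eq_pow_val, zpow_neg, zpow_ofNat, pow_zero, pow_one, mul_one, one_mul]
  generalize hXdef : (c : K) ^ 2 ^ m = X at *
  generalize hYdef : (d : K) ^ 2 ^ m = Y at *
  have h1 : ((X⁻¹) ^ 2) ^ 2 ^ m = (c : K)⁻¹ := by
    rw [inv_pow, inv_pow, ← pow_mul, mul_comm, pow_mul, hXX]
  have h2 : ((c : K) ^ 2) ^ 2 ^ m = X ^ 2 := by
    rw [← pow_mul, mul_comm, pow_mul, hXdef]
  have h3 : ((d : K)⁻¹) ^ 2 ^ m = Y⁻¹ := by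
    rw [inv_pow, hYdef]
  have hκ : ((X⁻¹) ^ 2 * (c : K) ^ 2 * (d : K)⁻¹ * t) ^ 2 ^ m = X ^ 2 * (c : K)⁻¹ * Y⁻¹ * t ^ 2 ^ m := by
    rw [mul_pow, mul_pow, mul_pow, h1, h2, h3]
    ring
  have e1 : ((X⁻¹) ^ 2 * (c : K) ^ 2 * (d : K)⁻¹ * t) ^ (2 ^ m + 1) + Y⁻¹ * (c : K) * (d : K)⁻¹ * υ
      = Y⁻¹ * (c : K) * (d : K)⁻¹ * (t ^ (2 ^ m + 1) + υ) := by
    rw [pow_succ, hκ, pow_succ]
    field_simp
    ring
  have e2 : (Y⁻¹ * (c : K) * (d : K)⁻¹ * υ) ^ (2 * 2 ^ m) = (Y⁻¹) ^ 2 * X ^ 2 * (d : K)⁻¹ * υ ^ (2 * 2 ^ m) := by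
    have h4 : (Y⁻¹) ^ (2 * 2 ^ m) = (d : K)⁻¹ := by
      rw [inv_pow, mul_comm 2 (2 ^ m), pow_mul, hYY]
    have h5 : (c : K) ^ (2 * 2 ^ m) = X ^ 2 := by
      rw [mul_comm 2 (2 ^ m), pow_mul, hXdef]
    have h6 : ((d : K)⁻¹) ^ (2 * 2 ^ m) = (Y⁻¹) ^ 2 := by
      rw [inv_pow, mul_comm 2 (2 ^ m), pow_mul, hYdef, inv_pow]
    rw [mul_pow, mul_pow, mul_pow, h4, h5, h6]
    ring
  rw [hκ, e1, e2]
  have g1 : Y⁻¹ * X ^ 2 * (c : K)⁻¹ * t ^ 2 ^ m = X ^ 2 * (c : K)⁻¹ * Y⁻¹ * t ^ 2 ^ m := by ring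
  have g2 : (X ^ 2)⁻¹ * (c : K) ^ 2 * (d : K)⁻¹ * t = X⁻¹ ^ 2 * (c : K) ^ 2 * (d : K)⁻¹ * t := by rw [inv_pow]
  have g3 : (Y ^ 2)⁻¹ * X ^ 2 * (d : K)⁻¹ * υ ^ (2 * 2 ^ m) = Y⁻¹ ^ 2 * X ^ 2 * (d : K)⁻¹ * υ ^ (2 * 2 ^ m) := by
    rw [inv_pow]
  rw [g1, g2, g3]

end ConjQ

end Cfsg.Agent.Lib.Helper69.TwOut.F4
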