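/-
helper69: project TWOUT for `²F₄` (S2128): `|Out(²F₄(2^(2m+1)))| = 2m + 1`, from the abstract count
`card_out_rank2_suz` and the concrete data of helper18's `²F₄` library.
-/
import Cfsg.Agent.Lib.Helper69.TwOut.TwOutSuz
import Cfsg.Agent.Lib.Helper69.TwOut.F4.Syl
import Cfsg.Agent.Lib.Helper69.TwOut.F4.SL2A
import Cfsg.Agent.Lib.Helper69.TwOut.F4.Torus
import Cfsg.Agent.Lib.Helper69.TwOut.F4.Field
import Cfsg.Agent.Lib.Helper69.TwOut.F4.Arith
import Cfsg.Agent.Lib.Helper36.AutO.RingAutCard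

set_option autoImplicit false
set_option linter.unusedSectionVars false
set_option maxRecDepth 100000

namespace Cfsg.Agent.Lib.Helper69.TwOut.F4

open Cfsg Cfsg.Lie Cfsg.Agent.Lib.Helper17 Cfsg.Agent.Lib.Helper91.TwOut
open Cfsg.Agent.Lib.Helper18 hiding hD4
open Cfsg.Agent.Lib.Helper18.F4T Cfsg.Agent.Lib.Helper91.ReeF4 Cfsg.Agent.Lib.Helper61.ReeF4
open Cfsg.Agent.Lib.Helper69.TwOut

universe u

/-- A subgroup generated by a set, as a group, is generated by the subtype of its generators. -/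
theorem closure_subtype_eq_top_F4 {G : Type*} [Group G] (H : Subgroup G) (S : Set G) (hS : H = Subgroup.closure S)
    (T : Set ↥H) (hT : ∀ g (hg : g ∈ H), g ∈ S → (⟨g, hg⟩ : ↥H) ∈ T) : Subgroup.closure T = ⊤ := by
  rw [eq_top_iff]
  rintro ⟨g, hg⟩ -
  have hg' : g ∈ Subgroup.closure S := hS ▸ hg
  have hSH : S ⊆ (H : Set G) := by
    rw [hS]
    exact Subgroup.subset_closure
  have key : ∀ x (hx : x ∈ Subgroup.closure S), ∃ hxH : x ∈ H, (⟨x, hxH⟩ : ↥H) ∈ Subgroup.closure T := by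
    intro x hx
    induction hx using Subgroup.closure_induction with
    | mem x hx => exact ⟨hSH hx, Subgroup.subset_closure (hT x (hSH hx) hx)⟩
    | one => exact ⟨one_mem _, one_mem _⟩
    | mul a b _ _ iha ihb =>
      obtain ⟨ha, ha'⟩ := iha
      obtain ⟨hb, hb'⟩ := ihb
      exact ⟨mul_mem ha hb, mul_mem ha' hb'⟩
    | inv a _ iha =>
      obtain ⟨ha, ha'⟩ := iha
      exact ⟨inv_mem ha, inv_mem ha'⟩
  obtain ⟨_, h⟩ := key g hg'
  exact h

section Fix

variable (K : Type u) [Field K] [Fintype K] [CharP K 2] (m : ℕ) (hq : ∀ t : K, t ^ (2 * 2 ^ m * 2 ^ m) = t)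

/-- The torus element `f4H c d` as an element of `²F₄`. -/
noncomputable def f4HG (c d : Kˣ) : ↥(GF4 K m) := ⟨f4H (2 ^ m) c d, f4H_mem_twisted K m hq c d⟩

theorem pairNG_injective (t t' : K) (h : pairNG K m t = pairNG K m t') : t = t' := by
  rw [← sF4_conj_pairW, ← sF4_conj_pairW] at h
  have h1 : pairWG K m t = pairWG K m t' := by
    have := congrArg (fun x => (sF4 K m 0)⁻¹ * x * sF4 K m 0) h
    simpa [mul_assoc] using this
  exact pairW_injective K m t t' (congrArg Subtype.val h1)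

end Fix

/-- `|Out(²F₄(2^(2m+1)))| = 2m + 1`. -/
theorem card_out_F4 {K : Type u} [Field K] [Fintype K] {m : ℕ} (hm : 1 ≤ m)
    (hK : Fintype.card K = 2 ^ (2 * m + 1)) : Nat.card (Out ↥(twistedF4 K (2 ^ m))) = 2 * m + 1 := by
  have hchar : CharP K 2 := charP_two_of_card hK
  have hq := hq_of_card hK
  have hp2 : Fact (Nat.Prime 2) := ⟨Nat.prime_two⟩
  have he0 : (2 : ℕ) ^ m ≠ 0 := pow_ne_zero _ (by norm_num)
  obtain ⟨P, hPB, hPN, hPS⟩ := exists_bnPair_f4 K m hq
  have hsyl := sylow_F4 K m hK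
  obtain ⟨Φa, hax, hay, hah⟩ := exists_PhiA K m
  have hcardK : Nat.card (K ≃+* K) = 2 * m + 1 :=
    Cfsg.Agent.Lib.Helper36.AutO.card_ringAut_eq (p := 2) (f := 2 * m + 1) (by omega) hK
  let e : Fin 2 → ℕ := fun i => if i = 0 then 2 * m + 1 else 2 * (2 * m + 1)
  have hepos : ∀ i, 0 < e i := by
    intro i
    fin_cases i
    · show 0 < 2 * m + 1
      omega
    · show 0 < 2 * (2 * m + 1)
      omega
  have hcard : ∀ i : Fin 2, Nat.card ↥(XF4 K m (i : ℕ)) = 2 ^ e i := by
    intro i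
    fin_cases i
    · show Nat.card ↥(XF4 K m 0) = 2 ^ (2 * m + 1)
      rw [card_XF4_zero K m hq, hK]
    · show Nat.card ↥(XF4 K m 1) = 2 ^ (2 * (2 * m + 1))
      rw [card_XF4_one K m hq, hK, ← pow_add]
      congr 1
      ring
  set S := splitF4 K m hq P hPB hPN hPS hsyl e hepos (hXeq_F4 K m hq) hcard with hS
  have hHmem : ∀ g : ↥(GF4 K m), g ∈ S.P.B ⊓ S.P.N ↔ (g : GL chevF4.Idx K) ∈ chevF4.diagonalSubgroup K :=
    fun g => mem_PH K m P hPB hPN g
  have hΦhd : ∀ u : Kˣ, Φa (hd u) = f4HG K m hq 1 u := by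
    intro u
    apply Subtype.ext
    rw [hah u, hPt_mul_eq_f4H]
    rfl
  have hconjP : ∀ (c d : Kˣ) (t : K), f4HG K m hq c d * pairWG K m t * (f4HG K m hq c d)⁻¹ =
      pairWG K m ((c : K)⁻¹ * (d : K) ^ 2 * t) := by
    intro c d t
    apply Subtype.ext
    exact f4H_conj_pairW' (2 ^ m) c d t
  have hconjQ : ∀ (c d : Kˣ) (t υ : K), f4HG K m hq c d * quadWG K m t υ * (f4HG K m hq c d)⁻¹ =
      quadWG K m ((((c : K) ^ 2 ^ m)⁻¹) ^ 2 * (c : K) ^ 2 * (d : K)⁻¹ * t)
        (((d : K) ^ 2 ^ m)⁻¹ * (c : K) * (d : K)⁻¹ * υ) := by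
    intro c d t υ
    apply Subtype.ext
    exact f4H_conj_quadW' m hq c d t υ
  have hHG : ∀ c d : Kˣ, f4HG K m hq c d ∈ S.P.B ⊓ S.P.N := fun c d => (hHmem _).mpr (f4H_mem_H _ c d)
  have hmain := card_out_rank2_suz (K := K) S
    (by
      show (2 * m + 1 : ℕ) ≠ 2 * (2 * m + 1)
      omega)
    (by
      show P.B.normalCore = ⊥
      rw [hPB]
      exact normalCore_f4 K m)
    (fun x => CharTwo.add_self_eq_zero x)
    Φa
    (by
      intro g
      show g ∈ XF4 K m 0 ↔ _
      rw [mem_XF4_zero' K m hq]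
      simp only [hax])
    (by
      intro g
      show g ∈ YF4 K m 0 ↔ _
      rw [mem_YF4_zero K m hq]
      simp only [hay])
    (by
      intro t t' h
      simp only [hax] at h
      exact pairW_injective K m t t' (congrArg Subtype.val h))
    (by
      intro t t' h
      simp only [hay] at h
      exact pairNG_injective K m t t' h)
    (quadWG K m) (fun t t' => t ^ 2 ^ m * t')
    (by
      intro g
      show g ∈ XF4 K m 1 ↔ _
      exact mem_XF4_one' K m hq g)
    (by
      intro t υ t' υ' h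
      exact quadW_injective K m t υ t' υ' (congrArg Subtype.val h))
    (by
      intro t υ t' υ'
      apply Subtype.ext
      exact quadW_mul m hq t υ t' υ')
    (by intro t; exact mul_zero _)
    (by intro t; show (0 : K) ^ 2 ^ m * t = 0; rw [zero_pow he0, zero_mul])
    (by intro υ; exact theta_succ_surjective m hq υ)
    (by
      intro t ht
      rcases mul_eq_zero.mp ht with h1 | h1
      · exact (pow_eq_zero_iff he0).mp h1
      · exact h1)
    (fun u => ((u⁻¹ : Kˣ) : K)) (fun u => ((u : K) ^ 2 ^ m)⁻¹ * (u : K)⁻¹)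
    (by
      intro u t υ
      rw [hΦhd, hconjQ]
      congr 1
      · simp
      · simp)
    (by
      intro u
      rw [hΦhd]
      exact hHG 1 u)
    (by
      intro c hc
      refine ⟨(Units.mk0 c hc)⁻¹, ?_⟩
      simp)
    (by
      obtain ⟨c, hc⟩ := exists_theta_ne K m hq hm hK
      have hc1 : (c : K) ≠ 1 := by
        intro h1
        rw [h1, one_pow] at hc
        exact hc rfl
      refine ⟨c, ?_, ?_⟩
      · intro h1
        apply hc1
        have : ((c⁻¹ : Kˣ) : K) = ((1 : Kˣ) : K) := by rw [h1, Units.val_one]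
        have h2 : c⁻¹ = 1 := Units.ext this
        rw [inv_eq_one] at h2
        rw [h2, Units.val_one]
      · intro h1
        apply hc1
        apply theta_succ_injective m hq
        rw [one_pow, one_mul]
        have hc0 : (c : K) ≠ 0 := c.ne_zero
        have hcp : (c : K) ^ 2 ^ m ≠ 0 := pow_ne_zero _ hc0
        field_simp at h1
        exact h1.symm)
    (by
      intro ζ hadd hequiv
      exact zeta_eq_zero m hq hm hK ζ hadd hequiv)
    (by
      apply closure_subtype_eq_top_F4 (GF4 K m)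
        {g : GL chevF4.Idx K | ∃ w ∈ f4Words K (2 ^ m), (g : Matrix chevF4.Idx chevF4.Idx K) = chevF4.wordMat K w}
        rfl
      intro g hg hgS
      obtain ⟨w, hw, hgw⟩ := hgS
      have hgw' : g = wordG hD4 w := Units.ext (by rw [hgw, coe_wordG])
      rcases hw with ⟨t, rfl | rfl⟩ | ⟨t, υ, rfl | rfl⟩
      · refine Or.inl (Or.inl (Or.inl ⟨t, ?_⟩))
        show Φa (sx t) = _
        rw [hax]
        exact Subtype.ext hgw'.symm
      · refine Or.inl (Or.inl (Or.inr ⟨t, ?_⟩))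
        show Φa (sy t) = _
        rw [hay]
        exact Subtype.ext hgw'.symm
      · refine Or.inl (Or.inr ?_)
        show (⟨g, hg⟩ : ↥(GF4 K m)) ∈ XF4 K m 1
        rw [mem_XF4_one' K m hq]
        exact ⟨t, υ, Subtype.ext hgw'⟩
      · refine Or.inr ?_
        show (⟨g, hg⟩ : ↥(GF4 K m)) ∈ YF4 K m 1
        rw [mem_YF4_one K m hq]
        exact ⟨t, υ, Subtype.ext hgw'⟩)
    (by
      intro c
      refine ⟨f4HG K m hq c⁻¹ 1, hHG _ _, ?_⟩
      intro t
      rw [hax, hax, hconjP]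
      congr 1
      simp)
    (by
      intro κ
      set d : Kˣ := κ ^ (4 * 2 ^ m + 3) with hd
      refine ⟨f4HG K m hq (d ^ 2) d, hHG _ _, ?_, ((d : K) ^ 2 ^ m)⁻¹ * ((d ^ 2 : Kˣ) : K) * (d : K)⁻¹, ?_⟩
      · intro t
        rw [hax, hconjP]
        congr 1
        rw [Units.val_pow_eq_pow_val, inv_mul_cancel₀ (pow_ne_zero _ d.ne_zero), one_mul]
      · intro t υ
        rw [hconjQ]
        congr 2
        have := torusB_arith m hq (κ : K) κ.ne_zero
        rw [hd, Units.val_pow_eq_pow_val, Units.val_pow_eq_pow_val]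
        exact this)
    (by
      intro h hh
      have hh' := (hHmem h).mp hh
      have hmem : (h : GL chevF4.Idx K) ∈ chevF4.diagonalSubgroup K ⊓ twistedF4 K (2 ^ m) :=
        Subgroup.mem_inf.mpr ⟨hh', h.2⟩
      rw [diag_inf_twisted_eq K m hq] at hmem
      obtain ⟨c, d, hcd⟩ := f4H_surj m hq _ hmem.1 hmem.2
      have hh2 : h = f4HG K m hq c d := Subtype.ext hcd
      refine ⟨(c : K)⁻¹ * (d : K) ^ 2, ?_⟩
      intro t
      rw [hax, hax, hh2, hconjP])
    (by
      intro τ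
      obtain ⟨θ, hθU, hθV, hθp, -⟩ := exists_fieldAut_F4 K m τ
      refine ⟨θ, hθU, hθV, ?_⟩
      intro t
      rw [hax, hax]
      exact hθp t)
  rw [← hcardK]
  exact hmain

end Cfsg.Agent.Lib.Helper69.TwOut.F4
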